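import Groth.Agent.HTopBig.FreeEta
import Groth.Agent.EtConsAb.ProperFibre
import Groth.Agent.EtaleSite.SetIntegralBC

/-!
# Proper base change for sheaves of sets
-/

set_option autoImplicit false
set_option linter.style.haveILetI false
set_option maxHeartbeats 1000000
set_option backward.isDefEq.respectTransparency false

universe u

open CategoryTheory CategoryTheory.Limits AlgebraicGeometry Opposite

noncomputable section

namespace Groth.Agent.HTopBig.SetsBC

open Groth.Agent.EtaleSite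
open Groth.Agent.EtConsAb.ProperFibre (toNbhd toNbhd_fst toNbhd_hom)

variable {X Y : Scheme.{u}} (f : X ⟶ Y) {L : Type u} [Field L] [IsAlgClosed L]
  (η : Spec (CommRingCat.of L) ⟶ Y)

theorem bcPt_left_eq (ζ : Spec (CommRingCat.of L) ⟶ pullback f η) (hζ : ζ ≫ pullback.snd f η = 𝟙 _)
    (hρ : (ζ ≫ pullback.fst f η) ≫ f = η) (V : Y.Etale) (φ : (Scheme.pointSmallEtale η).fiber.obj V) :
    (bcPt f (ζ ≫ pullback.fst f η) hρ V φ).left = ζ ≫ toNbhd f η φ := by
  refine pullback.hom_ext ((pullback.lift_fst _ _ _).trans ?_) ((pullback.lift_snd _ _ _).trans ?_)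
  · exact ((Category.assoc _ _ _).trans ((congrArg (ζ ≫ ·) (toNbhd_fst f η φ)).trans
      ((Category.assoc _ _ _).symm.trans ((congrArg (· ≫ φ.left) hζ).trans (Category.id_comp _))))).symm
  · exact ((Category.assoc _ _ _).trans (congrArg (ζ ≫ ·) (toNbhd_hom f η φ))).symm

/-- An open subset of a neighbourhood of the fibre containing all rational points of the fibre contains
all points above the point. -/
theorem mem_of_rational [IsProper f] {V : Y.Etale} (φ : (Scheme.pointSmallEtale η).fiber.obj V)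
    {O : Set ((EtCoh.bc f).obj V).left} (hO : IsOpen O)
    (h : ∀ (ρ : Spec (CommRingCat.of L) ⟶ X) (hρ : ρ ≫ f = η),
      (bcPt f ρ hρ V φ).left (default : Spec (CommRingCat.of L)) ∈ O)
    (x : ↥(pullback V.hom f))
    (hx : pullback.fst V.hom f x = φ.left (default : Spec (CommRingCat.of L))) : x ∈ O := by
  haveI : LocallyOfFiniteType (pullback.snd f η) := MorphismProperty.pullback_snd _ _ inferInstance
  haveI : JacobsonSpace ↥(pullback f η) := LocallyOfFiniteType.jacobsonSpace (pullback.snd f η)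
  let S : Set ↥(pullback f η) := toNbhd f η φ ⁻¹' O
  have hS : S = Set.univ := by
    by_contra hne
    obtain ⟨y, hy, hyc⟩ := nonempty_inter_closedPoints (Set.nonempty_compl.2 hne)
      (hO.preimage (toNbhd f η φ).continuous).isClosed_compl.isLocallyClosed
    let ζ : Spec (CommRingCat.of L) ⟶ pullback f η := pointOfClosedPoint (pullback.snd f η) y hyc
    have hζ : ζ ≫ pullback.snd f η = 𝟙 _ := pointOfClosedPoint_comp _ _ _
    have hζy : ζ (default : Spec (CommRingCat.of L)) = y := pointOfClosedPoint_apply _ _ _ _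
    have hρ : (ζ ≫ pullback.fst f η) ≫ f = η := by
      rw [Category.assoc, pullback.condition, ← Category.assoc, hζ, Category.id_comp]
    have h0 := h _ hρ
    rw [bcPt_left_eq f η ζ hζ hρ V φ, Scheme.Hom.comp_apply] at h0
    replace h0 := hζy ▸ h0
    exact hy h0
  obtain ⟨r, hr, -⟩ := Scheme.Pullback.exists_preimage_pullback (f := pullback.fst V.hom f) (g := φ.left)
    x (default : Spec (CommRingCat.of L)) hx
  let σ := pullback.fst (pullback.fst V.hom f) φ.left
  let σ' := pullback.snd (pullback.fst V.hom f) φ.left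
  let l : pullback (pullback.fst V.hom f) φ.left ⟶ pullback f η :=
    pullback.lift (σ ≫ pullback.snd V.hom f) σ' (by
      rw [Category.assoc, ← pullback.condition, ← Category.assoc, pullback.condition, Category.assoc]
      exact congrArg (σ' ≫ ·) (Over.w φ))
  have hl : l ≫ toNbhd f η φ = σ := by
    refine pullback.hom_ext ?_ ?_
    · rw [Category.assoc, toNbhd_fst, ← Category.assoc, pullback.lift_snd]
      exact pullback.condition.symm
    · rw [Category.assoc]
      exact (congrArg (l ≫ ·) (toNbhd_hom f η φ)).trans (pullback.lift_fst _ _ _)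
  have hm : l r ∈ S := hS ▸ trivial
  have : toNbhd f η φ (l r) = x := by
    rw [← Scheme.Hom.comp_apply, hl]; exact hr
  exact this ▸ hm

/-- Germs of a direct image along a proper morphism are determined at the rational points of the fibre. -/
theorem eq_of_cmpAt_proper [IsProper f] (F : EtDesc.Sh X)
    (p q : (SetStalk.stalkSh η).obj ((EtDesc.pushSh f).obj F))
    (h : ∀ ρ (hρ : ρ ≫ f = η), SetPush.cmpAt f ρ hρ F p = SetPush.cmpAt f ρ hρ F q) : p = q := by
  obtain ⟨V, φ, s, t, rfl, rfl⟩ := SetPush.exists_germ_eq_pair η ((EtDesc.pushSh f).obj F) p q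
  have hrat : ∀ (ρ : Spec (CommRingCat.of L) ⟶ X) (hρ : ρ ≫ f = η),
      (bcPt f ρ hρ V φ).left (default : Spec (CommRingCat.of L)) ∈
        {x | DescSh.EqAt F (U := (EtCoh.bc f).obj V) s t x} := fun ρ hρ =>
    (DescSh.eqAt_iff_germ F (U := (EtCoh.bc f).obj V) s t _ rfl).2 (by
      rw [← SetPush.cmpAt_germ, ← SetPush.cmpAt_germ]; exact h ρ hρ)
  refine SetPush.germ_push_eq f η φ s t fun x hx => ?_
  let ξ' := geomPointAt ((EtCoh.bc f).obj V).left x
  let ζ : (Scheme.pointSmallEtale (ξ' ≫ ((EtCoh.bc f).obj V).hom)).fiber.obj ((EtCoh.bc f).obj V) :=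
    (Over.homMk ξ' rfl : Over.mk (ξ' ≫ ((EtCoh.bc f).obj V).hom) ⟶
      (Scheme.Etale.forget X).obj ((EtCoh.bc f).obj V))
  refine ⟨_, inferInstance, inferInstance, _, ζ, geomPointAt_apply _ _ _, ?_⟩
  exact (DescSh.eqAt_iff_germ F (U := (EtCoh.bc f).obj V) s t ζ (geomPointAt_apply _ _ _)).1
    (mem_of_rational f η φ (DescSh.isOpen_eqAt F _ _) hrat x hx)

/-- A section of the free sheaf over a neighbourhood which is a generator at every rational point of the
fibre is a generator over a smaller neighbourhood. -/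
theorem exists_eta_eq [IsProper f] (E : EtDesc.Sh X) {V : Y.Etale}
    (φ : (Scheme.pointSmallEtale η).fiber.obj V) (t : (freeAb E).obj.obj (op ((EtCoh.bc f).obj V)))
    (h : ∀ (ρ : Spec (CommRingCat.of L) ⟶ X) (hρ : ρ ≫ f = η),
      ∃ (U : X.Etale) (ψ : (Scheme.pointSmallEtale ρ).fiber.obj U) (a : E.obj.obj (op U)),
        germ ρ (freeAb E) _ (bcPt f ρ hρ V φ) t = germ ρ (freeAb E) U ψ (eta E a)) :
    ∃ (V' : Y.Etale) (φ' : (Scheme.pointSmallEtale η).fiber.obj V')
      (e : E.obj.obj (op ((EtCoh.bc f).obj V'))),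
      ∀ (ρ : Spec (CommRingCat.of L) ⟶ X) (hρ : ρ ≫ f = η),
        germ ρ (freeAb E) _ (bcPt f ρ hρ V' φ') (eta E e) = germ ρ (freeAb E) _ (bcPt f ρ hρ V φ) t := by
  let P := (EtCoh.bc f).obj V
  let O : Set P.left := {z | ∃ (W : X.Etale) (g : W ⟶ P) (w : W.left) (e : E.obj.obj (op W)),
    g.left w = z ∧ (freeAb E).obj.map g.op t = eta E e}
  have hopen : IsOpen O := by
    refine isOpen_iff_forall_mem_open.2 ?_
    rintro _ ⟨W, g, w, e, rfl, he⟩
    haveI := DescSh.etale_left g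
    exact ⟨Set.range g.left, by rintro _ ⟨w', rfl⟩; exact ⟨W, g, w', e, rfl, he⟩,
      g.left.isOpenMap.isOpen_range, w, rfl⟩
  have hrat : ∀ (ρ : Spec (CommRingCat.of L) ⟶ X) (hρ : ρ ≫ f = η),
      (bcPt f ρ hρ V φ).left (default : Spec (CommRingCat.of L)) ∈ O := fun ρ hρ => by
    obtain ⟨U, ψ, a, hU⟩ := h ρ hρ
    obtain ⟨M, g₁, g₂, z, h₁, -, e⟩ := exists_common_ab (freeAb E) hU
    refine ⟨M, g₁, z.left (default : Spec (CommRingCat.of L)), E.obj.map g₂.op a, ?_, e.trans (eta_res g₂ a)⟩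
    rw [← h₁]
    rfl
  let q : P.left ⟶ V.left := pullback.fst V.hom f
  let O' : V.left.Opens := ⟨(q '' Oᶜ)ᶜ,
    ((pullback.fst V.hom f).isClosedMap _ hopen.isClosed_compl).isOpen_compl⟩
  have hv : φ.left (default : Spec (CommRingCat.of L)) ∈ O' := by
    rintro ⟨x, hx, hxv⟩
    exact hx (mem_of_rational f η φ hopen hrat x hxv)
  have key : ∀ {A B C : X.Etale} (a : A ⟶ B) (b : B ⟶ C) (x : (freeAb E).obj.obj (op C)),
      (freeAb E).obj.map a.op ((freeAb E).obj.map b.op x) = (freeAb E).obj.map (a ≫ b).op x :=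
    fun a b x => by rw [op_comp, Functor.map_comp, ConcreteCategory.comp_apply]
  -- the section over the part of `O`
  let ZO : P.left.Opens := ⟨O, hopen⟩
  let tO := (freeAb E).obj.map (pieceHom P ZO).op t
  let S : Sieve (piece P ZO) :=
    { arrows := fun W g => ∃ e : E.obj.obj (op W), (freeAb E).obj.map g.op tO = eta E e
      downward_closed := fun {W W'} g ⟨e, he⟩ k => ⟨E.obj.map k.op e, by
        rw [op_comp, Functor.map_comp, ConcreteCategory.comp_apply, he, eta_res]⟩ }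
  have hS : S ∈ X.smallEtaleTopology _ := by
    refine mem_topology_of_forall_exists _ fun z => ?_
    obtain ⟨W, g, w, e, hw, he⟩ := z.2
    let W' : W.left.Opens := g.left ⁻¹ᵁ ZO
    let k : W'.toScheme ⟶ (ZO : Scheme.{u}) := g.left ∣_ ZO
    have hk : k ≫ ZO.ι = W'.ι ≫ g.left := morphismRestrict_ι _ _
    let k' : piece W W' ⟶ piece P ZO := MorphismProperty.Over.homMk k (by
      show k ≫ ZO.ι ≫ P.hom = W'.ι ≫ W.hom
      rw [reassoc_of% hk, MorphismProperty.Over.w g]) trivial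
    refine ⟨piece W W', k', ⟨w, show g.left w ∈ ZO from hw ▸ z.2⟩,
      ⟨E.obj.map (pieceHom W W').op e, ?_⟩, ZO.ι.isOpenEmbedding.injective ?_⟩
    · show (freeAb E).obj.map k'.op ((freeAb E).obj.map (pieceHom P ZO).op t) = _
      rw [← ConcreteCategory.comp_apply, ← Functor.map_comp, ← op_comp,
        show k' ≫ pieceHom P ZO = pieceHom W W' ≫ g from MorphismProperty.Over.Hom.ext hk, op_comp,
        Functor.map_comp, ConcreteCategory.comp_apply, he, eta_res]
    · show ZO.ι (k _) = ZO.ι z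
      rw [← Scheme.Hom.comp_apply, hk]
      exact hw
  have hsh := (isSheaf_iff_isSheaf_of_type _ _).1 E.property S hS
  let τ : Presieve.FamilyOfElements E.obj S.arrows := fun W g hg => hg.choose
  have hτ : τ.Compatible := by
    intro W₁ W₂ Z g₁ g₂ j₁ j₂ h₁ h₂ e
    apply eta_injective (E := E)
    show eta E (E.obj.map g₁.op h₁.choose) = eta E (E.obj.map g₂.op h₂.choose)
    rw [← eta_res, ← eta_res, ← h₁.choose_spec, ← h₂.choose_spec]
    exact (key g₁ j₁ tO).trans ((congrArg (fun k => (freeAb E).obj.map k.op tO) e).trans (key g₂ j₂ tO).symm)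
  have he₀ : eta E (hsh.amalgamate τ hτ) = tO := by
    refine EtaleSite.sect_ext (F := freeAb E) _ _ fun Ω _ _ ξ x => ?_
    obtain ⟨W, g, hg, y, hy⟩ := (Scheme.pointSmallEtale ξ).jointly_surjective S hS x
    rw [← hy, ← germ_res, ← germ_res, eta_res, hsh.valid_glue hτ g hg]
    exact congrArg _ hg.choose_spec.symm
  -- shrink
  let r : (EtCoh.bc f).obj (piece V O') ⟶ P := (EtCoh.bc f).map (pieceHom V O')
  have hr : Set.range r.left ⊆ Set.range ZO.ι := by
    rw [Scheme.Opens.range_ι]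
    rintro _ ⟨z, rfl⟩
    by_contra hz
    have e := congrArg (fun k => k z) (EtCoh.isPullback_bc_map f (pieceHom V O')).w
    exact ((pullback.fst (piece V O').hom f : ((EtCoh.bc f).obj (piece V O')).left ⟶ O') z).2
      ⟨r.left z, hz, e⟩
  let r' := IsOpenImmersion.lift ZO.ι r.left hr
  have hr' : r' ≫ ZO.ι = r.left := IsOpenImmersion.lift_fac _ _ _
  let r'' : (EtCoh.bc f).obj (piece V O') ⟶ piece P ZO := MorphismProperty.Over.homMk r' (by
    show r' ≫ ZO.ι ≫ P.hom = _
    rw [reassoc_of% hr']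
    exact MorphismProperty.Over.w r) trivial
  have hrange : Set.range φ.left ⊆ Set.range O'.ι := by
    rw [Scheme.Opens.range_ι]
    rintro _ ⟨o, rfl⟩
    rw [Subsingleton.elim (α := Spec (CommRingCat.of L)) o default]
    exact hv
  let l := IsOpenImmersion.lift O'.ι φ.left hrange
  have hl : l ≫ O'.ι = φ.left := IsOpenImmersion.lift_fac _ _ _
  let φ' : (Scheme.pointSmallEtale η).fiber.obj (piece V O') :=
    (Over.homMk l (by
      show l ≫ O'.ι ≫ V.hom = η
      rw [reassoc_of% hl]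
      exact Over.w φ) : Over.mk η ⟶ (Scheme.Etale.forget Y).obj (piece V O'))
  refine ⟨piece V O', φ', E.obj.map r''.op (hsh.amalgamate τ hτ), fun ρ hρ => ?_⟩
  rw [← eta_res, he₀]
  show germ ρ (freeAb E) _ _ ((freeAb E).obj.map r''.op ((freeAb E).obj.map (pieceHom P ZO).op t)) = _
  rw [key, show r'' ≫ pieceHom P ZO = r from MorphismProperty.Over.Hom.ext hr', germ_res]
  refine congrArg (fun z => germ ρ (freeAb E) _ z t) (Over.OverMorphism.ext (pullback.hom_ext ?_ ?_))
  · refine (Category.assoc _ _ _).trans ((congrArg (_ ≫ ·) (pullback.lift_fst _ _ _)).trans ?_)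
    refine (Category.assoc _ _ _).symm.trans ((congrArg (· ≫ O'.ι) (pullback.lift_fst _ _ _)).trans ?_)
    exact hl.trans (pullback.lift_fst _ _ _).symm
  · refine (Category.assoc _ _ _).trans ((congrArg (_ ≫ ·) (pullback.lift_snd _ _ _)).trans ?_)
    exact (pullback.lift_snd _ _ _).trans (pullback.lift_snd _ _ _).symm

variable {X' Y' : Scheme.{u}} (g : Y' ⟶ Y) (f' : X' ⟶ Y') (g' : X' ⟶ X)

/-- Proper base change for sheaves of sets on stalks. -/
theorem bijective_stalk [IsProper f] (h : IsPullback g' f' f g) (η' : Spec (CommRingCat.of L) ⟶ Y')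
    (E : EtDesc.Sh X) :
    Function.Bijective ((SetStalk.stalkSh η').map (EtBC.baseChange0Sh f g f' g' h.w E)) := by
  haveI : IsProper f' := MorphismProperty.of_isPullback h inferInstance
  let ξ := η' ≫ g
  let e := (SetStalk.stalkPullShIso g η').app ((EtDesc.pushSh f).obj E)
  let T := (SetStalk.stalkSh η').map (EtBC.baseChange0Sh f g f' g' h.w E)
  have hee : ∀ q, e.inv (e.hom q) = q := fun q => congrArg (fun k => k q) e.hom_inv_id
  have hξ : ∀ ρ : Spec (CommRingCat.of L) ⟶ X', ρ ≫ f' = η' → (ρ ≫ g') ≫ f = ξ :=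
    fun ρ e => by rw [Category.assoc, h.w, ← Category.assoc, e]
  have hinv : ∀ ρ : Spec (CommRingCat.of L) ⟶ X',
      Function.Injective ((SetStalk.stalkPullShIso g' ρ).inv.app E) := fun ρ =>
    ((SetStalk.stalkPullShIso g' ρ).app E).toEquiv.symm.injective
  have key : ∀ (p : (SetStalk.stalkSh ξ).obj ((EtDesc.pushSh f).obj E))
      (ρ : Spec (CommRingCat.of L) ⟶ X') (h' : ρ ≫ f' = η'),
      SetPush.cmpAt f' ρ h' ((EtDesc.pullSh g').obj E) (T (e.inv p)) =
      (SetStalk.stalkPullShIso g' ρ).inv.app E (SetPush.cmpAt f (ρ ≫ g') (hξ ρ h') E p) :=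
    fun p ρ h' => SetIntBC.cmpAt_baseChange0Sh f g f' g' h.w ρ E h' _ p
  have hlift : ∀ ρ₀ : Spec (CommRingCat.of L) ⟶ X, ρ₀ ≫ f = ξ →
      ∃ ρ : Spec (CommRingCat.of L) ⟶ X', ρ ≫ g' = ρ₀ ∧ ρ ≫ f' = η' :=
    fun ρ₀ hρ₀ => ⟨h.lift ρ₀ η' hρ₀, h.lift_fst _ _ _, h.lift_snd _ _ _⟩
  constructor
  · intro q₁ q₂ hq
    have : e.hom q₁ = e.hom q₂ := eq_of_cmpAt_proper f ξ E _ _ fun ρ₀ hρ₀ => by
      obtain ⟨ρ, rfl, hρ⟩ := hlift ρ₀ hρ₀
      have h1 := key (e.hom q₁) ρ hρ
      have h2 := key (e.hom q₂) ρ hρ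
      rw [hee] at h1 h2
      exact hinv ρ ((h1.symm.trans (congrArg _ hq)).trans h2)
    rw [← hee q₁, this, hee]
  intro r
  obtain ⟨V', φ', s', hr⟩ := SetStalk.exists_germ_eq η' ((EtDesc.pushSh f').obj ((EtDesc.pullSh g').obj E)) r
  subst hr
  let A := freeAb E
  let s₁ : ((EtCoh.pull g').obj A).obj.obj (op ((EtCoh.bc f').obj V')) :=
    (toFree E g').hom.app (op ((EtCoh.bc f').obj V')) s'
  haveI hiso : IsIso ((EtCoh.stalk η').map (EtCoh.baseChange0 f g f' g' h.w A)) :=
    haveI := EtConsAb.ProperFibre.isIso_baseChange0_proper f f' g' g h A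
    inferInstance
  obtain ⟨p₀, hp₀⟩ := (ConcreteCategory.bijective_of_isIso ((stalkPullIso g η').inv.app
      ((EtCoh.push f).obj A) ≫ (EtCoh.stalk η').map (EtCoh.baseChange0 f g f' g' h.w A))).2
    (germ η' ((EtCoh.push f').obj ((EtCoh.pull g').obj A)) V' φ' s₁)
  obtain ⟨V, φ, t, rfl⟩ := exists_germ_eq ξ ((EtCoh.push f).obj A) p₀
  -- the values of `t`
  have hval : ∀ (ρ : Spec (CommRingCat.of L) ⟶ X') (hρ : ρ ≫ f' = η'),
      ∃ (U : X.Etale) (ψ : (Scheme.pointSmallEtale (ρ ≫ g')).fiber.obj U) (a : E.obj.obj (op U)),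
        SetStalk.germ ρ ((EtDesc.pullSh g').obj E) _ (bcPt f' ρ hρ V' φ') s' =
          (SetStalk.stalkPullShIso g' ρ).inv.app E (SetStalk.germ (ρ ≫ g') E U ψ a) ∧
        germ (ρ ≫ g') A _ (bcPt f (ρ ≫ g') (hξ ρ hρ) V φ) t = germ (ρ ≫ g') A U ψ (eta E a) := by
    intro ρ hρ
    let x := SetStalk.germ ρ ((EtDesc.pullSh g').obj E) _ (bcPt f' ρ hρ V' φ') s'
    obtain ⟨U, ψ, a, ha⟩ := SetStalk.exists_germ_eq (ρ ≫ g') E
      ((SetStalk.stalkPullShIso g' ρ).hom.app E x)
    have hx : x = (SetStalk.stalkPullShIso g' ρ).inv.app E (SetStalk.germ (ρ ≫ g') E U ψ a) := by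
      rw [ha]
      exact (((SetStalk.stalkPullShIso g' ρ).app E).toEquiv.symm_apply_apply x).symm
    refine ⟨U, ψ, a, hx, ?_⟩
    have h1 := germ_toFree E g' ρ _ s' ψ a hx
    have h2 := cmpAt_baseChange0 f g f' g' h.w ρ A hρ (hξ ρ hρ) (germ ξ ((EtCoh.push f).obj A) V φ t)
    rw [ConcreteCategory.comp_apply] at hp₀
    replace h2 := (congrArg (cmpAt f' ρ hρ ((EtCoh.pull g').obj A)) hp₀).symm.trans h2
    rw [cmpAt_germ, cmpAt_germ] at h2
    exact (ConcreteCategory.bijective_of_isIso ((stalkPullIso g' ρ).inv.app A)).1 (h2.symm.trans h1)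
  obtain ⟨V₂, φ₂, e₂, he₂⟩ := exists_eta_eq f ξ E φ t fun ρ₀ hρ₀ => by
    obtain ⟨ρ, rfl, hρ⟩ := hlift ρ₀ hρ₀
    obtain ⟨U, ψ, a, -, hU⟩ := hval ρ hρ
    exact ⟨U, ψ, a, hU⟩
  refine ⟨e.inv (SetStalk.germ ξ ((EtDesc.pushSh f).obj E) V₂ φ₂ e₂), ?_⟩
  refine eq_of_cmpAt_proper f' η' _ _ _ fun ρ hρ => ?_
  obtain ⟨U, ψ, a, hs, hU⟩ := hval ρ hρ
  rw [key _ ρ hρ, SetPush.cmpAt_germ, SetPush.cmpAt_germ, hs]
  exact congrArg _ (germ_eq_of_eta ((he₂ _ (hξ ρ hρ)).trans hU))

/-- Proper base change for sheaves of sets. -/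
theorem isIso_baseChange0Sh_proper [IsProper f] (h : IsPullback g' f' f g) (E : EtDesc.Sh X) :
    IsIso (EtBC.baseChange0Sh f g f' g' h.w E) := by
  refine SetStalk.isIso_of_stalk _ fun Ω _ _ η₀ => ?_
  let K := AlgebraicClosure Ω
  let σ : Spec (CommRingCat.of K) ⟶ Spec (CommRingCat.of Ω) :=
    Spec.map (CommRingCat.ofHom (algebraMap Ω K))
  rw [← ConcreteCategory.isIso_iff_bijective]
  refine (NatIso.isIso_map_iff (sheafFiberIsoOfPointIso (A := Type (u + 1)) (pointExtIso σ η₀)) _).2 ?_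
  exact (ConcreteCategory.isIso_iff_bijective _).2 (bijective_stalk f g f' g' h (σ ≫ η₀) E)

end Groth.Agent.HTopBig.SetsBC
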