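import Groth.Agent.HTopBig.Submersive
import Groth.Agent.BigBC.Fpqc

/-!
# `π⁻¹F` is a ph and an h sheaf; values of `a⁻¹F`
-/

set_option autoImplicit false
set_option linter.style.haveILetI false
set_option backward.isDefEq.respectTransparency.types false

universe u

open CategoryTheory CategoryTheory.Limits AlgebraicGeometry Opposite

namespace Groth.Agent.HTopBig

variable {K : Precoverage Scheme.{u}} (S : Scheme.{u})

/-- `π⁻¹F` is a sheaf for topologies whose covering sieves are universally submersive. -/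
theorem isSheaf_piEtPull (hK : ∀ ⦃X : Scheme.{u}⦄ (R : Sieve X), R ∈ K.toGrothendieck X → USub R)
    (F : EtCoh.Ab S) :
    Presheaf.IsSheaf (QuotSh.J K S) ((BigSite.piEtPull Scheme.etalePrecoverage S).obj F).obj := by
  rw [Presheaf.isSheaf_iff_isSheaf_forget _ _ (forget AddCommGrpCat.{u + 1}), isSheaf_iff_isSheaf_of_type]
  intro T R hR
  have hU := hK _ ((GrothendieckTopology.mem_over_iff _ _).1 hR)
  refine BigBC.isSheafFor_of_submersive (BigBC.isRigid_piEtPull F) R (fun Y s y => ?_) (fun v => ?_) ?_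
  · obtain ⟨W, g, w, U, x, u, he, hw, hu⟩ := BigBC.exists_localForm F s y
    exact ⟨W, g, w, he, hw, (EtFppf.a S).obj U, x, _, U.prop, hu⟩
  · obtain ⟨Y, a, y, ha, hy⟩ := (hU T.left (𝟙 _)).1 v
    rw [Category.comp_id] at ha
    exact ⟨_, _, y, (Sieve.overEquiv_iff R a).1 ha, hy⟩
  · intro W g _ O hO
    refine (hU W.left g.left).2 O fun Y a ha => ?_
    let l : Y ⟶ pullback g.left (a ≫ g.left) := pullback.lift a (𝟙 Y) (Category.id_comp _).symm
    have ha' : a = l ≫ pullback.fst g.left (a ≫ g.left) := (pullback.lift_fst _ _ _).symm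
    rw [ha']
    exact (hO _ _ ((Sieve.overEquiv_iff R (a ≫ g.left)).1 ha)).preimage l.continuous

/-- The value of the pullback of an étale sheaf to a big site with universally submersive coverings. -/
theorem nonempty_value_iso (hle : Scheme.etalePrecoverage ≤ K)
    (hK : ∀ ⦃X : Scheme.{u}⦄ (R : Sieve X), R ∈ K.toGrothendieck X → USub R)
    [BigSite.AEtCont K S] (F : EtCoh.Ab S) {X : Scheme.{u}} (f : X ⟶ S) :
    Nonempty (((BigSite.piEtPull K S).obj F).obj.obj (op (Over.mk f)) ≅
      ((EtCoh.pull f).obj F).obj.obj (op (EtCoh.top X))) := by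
  let ι : BigSite.Ab K S ⥤ BigSite.Ab Scheme.etalePrecoverage S :=
    { obj := fun G => ⟨G.obj, fun E => Presieve.isSheaf_of_le _ (BigSite.J_mono hle S) (G.property E)⟩
      map := fun φ => ⟨φ.hom⟩ }
  let L : EtCoh.Ab S ⥤ BigSite.Ab K S :=
    { obj := fun G => ⟨((BigSite.piEtPull Scheme.etalePrecoverage S).obj G).obj, isSheaf_piEtPull S hK G⟩
      map := fun φ => ⟨((BigSite.piEtPull Scheme.etalePrecoverage S).map φ).hom⟩
      map_id := fun G => by apply Sheaf.hom_ext; simp [CategoryTheory.Functor.map_id]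
      map_comp := fun a b => by apply Sheaf.hom_ext; simp [CategoryTheory.Functor.map_comp] }
  let e := BigSite.piEtAdj Scheme.etalePrecoverage S
  let adj : L ⊣ BigSite.resEt K S := Adjunction.mkOfHomEquiv
    { homEquiv := fun A G =>
        { toFun := fun φ => e.homEquiv A (ι.obj G) ⟨φ.hom⟩
          invFun := fun ψ => ⟨((e.homEquiv A (ι.obj G)).symm ψ).hom⟩
          left_inv := fun φ => by apply Sheaf.hom_ext; simp
          right_inv := fun ψ => by exact (e.homEquiv A (ι.obj G)).apply_symm_apply ψ }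
      homEquiv_naturality_left_symm := fun {A A' G} a b => by
        apply Sheaf.hom_ext
        exact congrArg (·.hom) (e.homEquiv_naturality_left_symm (Y := ι.obj G) a b)
      homEquiv_naturality_right := fun {A G G'} a b => by
        exact e.homEquiv_naturality_right (Y := ι.obj G) (Y' := ι.obj G') ⟨a.hom⟩ (ι.map b) }
  let i := Adjunction.leftAdjointUniq (BigSite.piEtAdj K S) adj
  exact ⟨((sheafSections (QuotSh.J K S) AddCommGrpCat.{u + 1}).obj (op (Over.mk f))).mapIso (i.app F) ≪≫
    BigBC.sectPiIso f F⟩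

end Groth.Agent.HTopBig
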