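import Groth.Agent.EtFppfCmp.PhiIso
import Groth.Agent.BigBC.Rpush

/-!
# Big étale sites: direct images along finite morphisms
-/

set_option autoImplicit false
set_option linter.style.haveILetI false
set_option backward.isDefEq.respectTransparency.types false

universe u

open CategoryTheory CategoryTheory.Limits AlgebraicGeometry Opposite

noncomputable section

namespace Groth.Agent.HTopBig

open Groth.Agent.EtaleSite Groth.Agent.BigBC

variable {X Y : Scheme.{u}} (f : X ⟶ Y)

/-- Direct image along a finite morphism preserves epimorphisms on big étale sites. -/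
theorem epi_pushBig [IsFinite f] {G H : BigSite.Ab Scheme.etalePrecoverage X} (π : G ⟶ H) [Epi π] :
    Epi ((BigSite.pushBig Scheme.etalePrecoverage f AddCommGrpCat.{u + 1}).map π) := by
  suffices Sheaf.IsLocallySurjective
    ((BigSite.pushBig Scheme.etalePrecoverage f AddCommGrpCat.{u + 1}).map π) from inferInstance
  constructor
  intro T t
  let P : Over X := (Over.pullback f).obj T
  let h : pullback T.hom f ⟶ T.left := pullback.fst T.hom f
  refine mem_of_forall_etale _ fun v => ?_
  let R := BigSite.resEtAlong Scheme.etalePrecoverage P.hom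
  haveI : Epi (R.map π) := inferInstance
  haveI : Epi ((EtCoh.push h).map (R.map π)) := epi_push_map h (R.map π)
  have : Sheaf.IsLocallySurjective ((EtCoh.push h).map (R.map π)) :=
    (Sheaf.isLocallySurjective_iff_epi' AddCommGrpCat.{u + 1} _).2 inferInstance
  let j₀ : (Over.map P.hom).obj ((EtFppf.a P.left).obj ((EtCoh.bc h).obj (EtCoh.top T.left))) ⟶ P :=
    Over.homMk ((EtCoh.bc h).obj (EtCoh.top T.left)).hom rfl
  obtain ⟨V, k, z, ⟨e, hek⟩, hz⟩ := exists_of_mem_topology
    (Presheaf.imageSieve_mem T.left.smallEtaleTopology ((EtCoh.push h).map (R.map π)).hom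
      (U := op (EtCoh.top T.left)) (H.obj.map j₀.op t)) v
  let T' : Over Y := Over.mk (V.hom ≫ T.hom)
  let g : T' ⟶ T := Over.homMk V.hom rfl
  let m : pullback (V.hom ≫ T.hom) f ⟶ pullback V.hom h :=
    pullback.lift (pullback.fst (V.hom ≫ T.hom) f)
      (pullback.lift (pullback.fst (V.hom ≫ T.hom) f ≫ V.hom) (pullback.snd _ _)
        (by rw [Category.assoc]; exact pullback.condition))
      (by rw [pullback.lift_fst])
  let j : (Over.pullback f).obj T' ⟶ (Over.map P.hom).obj ((EtFppf.a P.left).obj ((EtCoh.bc h).obj V)) :=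
    Over.homMk m (by
      show m ≫ pullback.snd V.hom h ≫ pullback.snd T.hom f = pullback.snd (V.hom ≫ T.hom) f
      rw [pullback.lift_snd_assoc, pullback.lift_snd])
  refine ⟨T', g, z, ⟨G.obj.map j.op e, ?_⟩, V.prop, ?_⟩
  · refine (NatTrans.naturality_apply π.hom j.op e).trans ?_
    refine (congrArg (H.obj.map j.op) hek).trans ?_
    show H.obj.map j.op (H.obj.map
      ((Over.map P.hom).map ((EtFppf.a P.left).map ((EtCoh.bc h).map k))).op (H.obj.map j₀.op t)) = _
    rw [← ConcreteCategory.comp_apply, ← ConcreteCategory.comp_apply, ← Functor.map_comp,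
      ← Functor.map_comp, ← op_comp, ← op_comp]
    refine congrArg (fun q : (Over.pullback f).obj T' ⟶ P => H.obj.map q.op t)
      (Over.OverMorphism.ext ?_)
    show m ≫ ((EtCoh.bc h).map k).left ≫ pullback.snd (EtCoh.top T.left).hom h =
      ((Over.pullback f).map g).left
    refine (congrArg (m ≫ ·) (MorphismProperty.Over.w ((EtCoh.bc h).map k))).trans ?_
    refine (pullback.lift_snd _ _ _).trans ?_
    refine pullback.hom_ext ?_ ?_
    · rw [pullback.lift_fst]
      exact (pullback.lift_fst _ _ _).symm
    · rw [pullback.lift_snd]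
      exact (pullback.lift_snd _ _ _).symm
  · show V.hom z = v
    rw [← hz, show k.left = V.hom from (Category.comp_id _).symm.trans (MorphismProperty.Over.w k)]
    rfl

theorem preservesFiniteLimits_pushBigEt :
    PreservesFiniteLimits (BigSite.pushBig Scheme.etalePrecoverage f AddCommGrpCat.{u + 1}) :=
  have : PreservesLimitsOfSize.{0, 0} (BigSite.pushBig Scheme.etalePrecoverage f AddCommGrpCat.{u + 1}) :=
    (BigSite.bigAdj Scheme.etalePrecoverage f AddCommGrpCat.{u + 1}).rightAdjoint_preservesLimits
  PreservesLimitsOfSize.preservesFiniteLimits _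

/-- Higher direct images along finite morphisms on big étale sites vanish. -/
theorem isZero_RpushBig_finite [IsFinite f] (G : BigSite.Ab Scheme.etalePrecoverage X) (k : ℕ) :
    IsZero ((BigSite.RpushBig Scheme.etalePrecoverage f (k + 1)).obj G) := by
  haveI := preservesFiniteLimits_pushBigEt f
  refine Flasque.isZero_rightDerived_of_class _ (fun _ => True) (fun G _ => ?_) k G trivial
  let S : ShortComplex (BigSite.Ab Scheme.etalePrecoverage X) :=
    ShortComplex.mk (Injective.ι G) (cokernel.π _) (cokernel.condition _)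
  have : Epi S.g := coequalizer.π_epi
  exact ⟨S, { exact := ShortComplex.exact_cokernel _ }, rfl,
    inferInstanceAs (Injective (Injective.under G)), trivial, epi_pushBig f S.g⟩

/-- `π⁻¹ R^q f_* = R^q f_* π⁻¹` for finite morphisms. -/
theorem nonempty_Rpush_iso [IsFinite f] (F : EtCoh.Ab X) (q : ℕ) :
    Nonempty ((BigSite.piEtPull Scheme.etalePrecoverage Y).obj ((EtCoh.Rpush f q).obj F) ≅
      (BigSite.RpushBig Scheme.etalePrecoverage f q).obj
        ((BigSite.piEtPull Scheme.etalePrecoverage X).obj F)) := by
  haveI := preservesFiniteLimits_pushBigEt f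
  haveI : PreservesLimitsOfSize.{0, 0} (EtCoh.push f) := (EtCoh.pullPushAdj f).rightAdjoint_preservesLimits
  haveI : PreservesFiniteLimits (EtCoh.push f) := PreservesLimitsOfSize.preservesFiniteLimits _
  rcases q with _ | k
  · haveI := EtFppfCmp.isIso_phi f (F := F)
    exact ⟨(BigSite.piEtPull Scheme.etalePrecoverage Y).mapIso
        ((EtCoh.push f).rightDerivedZeroIsoSelf.app F) ≪≫ asIso (EtFppfCmp.phi f F) ≪≫
      ((BigSite.pushBig Scheme.etalePrecoverage f AddCommGrpCat.{u + 1}).rightDerivedZeroIsoSelf.app _).symm⟩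
  · refine ⟨IsZero.iso ?_ (isZero_RpushBig_finite f _ k)⟩
    refine Functor.map_isZero _ ?_
    exact Flasque.isZero_rightDerived_of_exact (EtCoh.push f) k F

end Groth.Agent.HTopBig
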