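import Groth.Agent.EtConsAb.PullTriv
import Groth.Agent.EtaleSite.SetPushStalk

/-!
# The free abelian sheaf on a sheaf of sets
-/

set_option autoImplicit false
set_option linter.style.haveILetI false
set_option backward.isDefEq.respectTransparency.types false

universe u

open CategoryTheory CategoryTheory.Limits AlgebraicGeometry Opposite

noncomputable section

namespace Groth.Agent.HTopBig.SetsBC

open Groth.Agent.EtaleSite

variable {X : Scheme.{u}} (E : EtDesc.Sh X)

/-- The free abelian sheaf on a sheaf of sets. -/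
def freeAb : EtCoh.Ab X :=
  (presheafToSheaf X.smallEtaleTopology AddCommGrpCat.{u + 1}).obj (E.obj ⋙ AddCommGrpCat.free)

/-- The generator attached to a section. -/
def eta {W : X.Etale} (x : E.obj.obj (op W)) : (freeAb E).obj.obj (op W) :=
  (toSheafify X.smallEtaleTopology (E.obj ⋙ AddCommGrpCat.free)).app (op W)
    (show (E.obj ⋙ AddCommGrpCat.free).obj (op W) from FreeAbelianGroup.of x)

variable {E}

theorem eta_res {W' W : X.Etale} (g : W' ⟶ W) (x : E.obj.obj (op W)) :
    (freeAb E).obj.map g.op (eta E x) = eta E (E.obj.map g.op x) := by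
  refine (NatTrans.naturality_apply (toSheafify X.smallEtaleTopology (E.obj ⋙ AddCommGrpCat.free)) g.op
    (show (E.obj ⋙ AddCommGrpCat.free).obj (op W) from FreeAbelianGroup.of x)).symm.trans ?_
  exact congrArg _ (FreeAbelianGroup.map_of_apply _)

theorem eta_injective {W : X.Etale} {s t : E.obj.obj (op W)} (h : eta E s = eta E t) : s = t := by
  have hS := Presheaf.equalizerSieve_mem X.smallEtaleTopology
    (toSheafify X.smallEtaleTopology (E.obj ⋙ AddCommGrpCat.free)) _ _ h
  refine (((isSheaf_iff_isSheaf_of_type _ _).1 E.property).isSeparated _ hS).ext fun V g hg => ?_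
  have hg' : FreeAbelianGroup.map (E.obj.map g.op) (FreeAbelianGroup.of s) =
      FreeAbelianGroup.map (E.obj.map g.op) (FreeAbelianGroup.of t) := hg
  rw [FreeAbelianGroup.map_of_apply, FreeAbelianGroup.map_of_apply] at hg'
  exact FreeAbelianGroup.of_injective hg'

theorem exists_common {Ω : Type u} [Field Ω] [IsSepClosed Ω] {ξ : Spec (CommRingCat.of Ω) ⟶ X}
    (F : EtDesc.Sh X) {U U' : X.Etale} {x : (Scheme.pointSmallEtale ξ).fiber.obj U}
    {x' : (Scheme.pointSmallEtale ξ).fiber.obj U'} {s : F.obj.obj (op U)} {s' : F.obj.obj (op U')}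
    (h : SetStalk.germ ξ F U x s = SetStalk.germ ξ F U' x' s') :
    ∃ (M : X.Etale) (a : M ⟶ U) (b : M ⟶ U') (z : (Scheme.pointSmallEtale ξ).fiber.obj M),
      (Scheme.pointSmallEtale ξ).fiber.map a z = x ∧ (Scheme.pointSmallEtale ξ).fiber.map b z = x' ∧
        F.obj.map a.op s = F.obj.map b.op s' := by
  let E₁ : (Scheme.pointSmallEtale ξ).fiber.Elements := ⟨U, x⟩
  let E₂ : (Scheme.pointSmallEtale ξ).fiber.Elements := ⟨U', x'⟩
  let M := IsCofiltered.min E₁ E₂
  let a : M ⟶ E₁ := IsCofiltered.minToLeft _ _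
  let b : M ⟶ E₂ := IsCofiltered.minToRight _ _
  have ha : (Scheme.pointSmallEtale ξ).fiber.map a.1 M.2 = x := a.2
  have hb : (Scheme.pointSmallEtale ξ).fiber.map b.1 M.2 = x' := b.2
  have h' : SetStalk.germ ξ F M.1 M.2 (F.obj.map a.1.op s) =
      SetStalk.germ ξ F M.1 M.2 (F.obj.map b.1.op s') := by
    rw [SetStalk.germ_res, SetStalk.germ_res, ha, hb, h]
  obtain ⟨W, g, y, hy, hg⟩ := (SetStalk.germ_eq_iff ξ F M.1 M.2 _ _).1 h'
  refine ⟨W, g ≫ a.1, g ≫ b.1, y, ?_, ?_, ?_⟩
  · rw [Functor.map_comp, ConcreteCategory.comp_apply, hy, ha]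
  · rw [Functor.map_comp, ConcreteCategory.comp_apply, hy, hb]
  · rw [op_comp, op_comp, Functor.map_comp, Functor.map_comp, ConcreteCategory.comp_apply,
      ConcreteCategory.comp_apply, hg]

theorem exists_common_ab {Ω : Type u} [Field Ω] [IsSepClosed Ω] {ξ : Spec (CommRingCat.of Ω) ⟶ X}
    (F : EtCoh.Ab X) {U U' : X.Etale} {x : (Scheme.pointSmallEtale ξ).fiber.obj U}
    {x' : (Scheme.pointSmallEtale ξ).fiber.obj U'} {s : F.obj.obj (op U)} {s' : F.obj.obj (op U')}
    (h : germ ξ F U x s = germ ξ F U' x' s') :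
    ∃ (M : X.Etale) (a : M ⟶ U) (b : M ⟶ U') (z : (Scheme.pointSmallEtale ξ).fiber.obj M),
      (Scheme.pointSmallEtale ξ).fiber.map a z = x ∧ (Scheme.pointSmallEtale ξ).fiber.map b z = x' ∧
        F.obj.map a.op s = F.obj.map b.op s' := by
  let E₁ : (Scheme.pointSmallEtale ξ).fiber.Elements := ⟨U, x⟩
  let E₂ : (Scheme.pointSmallEtale ξ).fiber.Elements := ⟨U', x'⟩
  let M := IsCofiltered.min E₁ E₂
  let a : M ⟶ E₁ := IsCofiltered.minToLeft _ _
  let b : M ⟶ E₂ := IsCofiltered.minToRight _ _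
  have ha : (Scheme.pointSmallEtale ξ).fiber.map a.1 M.2 = x := a.2
  have hb : (Scheme.pointSmallEtale ξ).fiber.map b.1 M.2 = x' := b.2
  have h' : germ ξ F M.1 M.2 (F.obj.map a.1.op s) = germ ξ F M.1 M.2 (F.obj.map b.1.op s') := by
    rw [germ_res, germ_res, ha, hb, h]
  obtain ⟨W, g, y, hy, hg⟩ := (germ_eq_iff ξ F M.1 M.2 _ _).1 h'
  refine ⟨W, g ≫ a.1, g ≫ b.1, y, ?_, ?_, ?_⟩
  · rw [Functor.map_comp, ConcreteCategory.comp_apply, hy, ha]
  · rw [Functor.map_comp, ConcreteCategory.comp_apply, hy, hb]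
  · rw [op_comp, op_comp, Functor.map_comp, Functor.map_comp, ConcreteCategory.comp_apply,
      ConcreteCategory.comp_apply, hg]

theorem germ_eq_of_eta {Ω : Type u} [Field Ω] [IsSepClosed Ω] {ξ : Spec (CommRingCat.of Ω) ⟶ X}
    {U U' : X.Etale} {x : (Scheme.pointSmallEtale ξ).fiber.obj U}
    {x' : (Scheme.pointSmallEtale ξ).fiber.obj U'} {a : E.obj.obj (op U)} {b : E.obj.obj (op U')}
    (h : germ ξ (freeAb E) U x (eta E a) = germ ξ (freeAb E) U' x' (eta E b)) :
    SetStalk.germ ξ E U x a = SetStalk.germ ξ E U' x' b := by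
  obtain ⟨M, p, q, z, hp, hq, e⟩ := exists_common_ab (freeAb E) h
  rw [eta_res, eta_res] at e
  rw [← hp, ← hq, ← SetStalk.germ_res, ← SetStalk.germ_res, eta_injective e]

variable {X' : Scheme.{u}} (p : X' ⟶ X) (E)

/-- The map from the inverse image to the inverse image of the free sheaf. -/
def toFree : (EtDesc.pullSh p).obj E ⟶
    (sheafCompose X'.smallEtaleTopology (forget AddCommGrpCat.{u + 1})).obj
      ((EtCoh.pull p).obj (freeAb E)) :=
  ((EtDesc.adjSh p).homEquiv _ _).symm (ObjectProperty.homMk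
    { app := fun W => TypeCat.ofHom fun x => EtConsAb.pullSect p (freeAb E) W.unop (eta E x)
      naturality := fun W W' g => by
        ext x
        show EtConsAb.pullSect p (freeAb E) W'.unop (eta E (E.obj.map g x)) =
          ((EtCoh.pull p).obj (freeAb E)).obj.map ((EtCoh.bc p).map g.unop).op
            (EtConsAb.pullSect p (freeAb E) W.unop (eta E x))
        rw [show E.obj.map g x = E.obj.map g.unop.op x from rfl, ← eta_res]
        exact NatTrans.naturality_apply ((EtCoh.pullPushAdj p).unit.app (freeAb E)).hom g _ })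

theorem toFree_unit {W : X.Etale} (a : E.obj.obj (op W)) :
    (toFree E p).hom.app (op ((EtCoh.bc p).obj W))
        (((EtDesc.adjSh p).unit.app E).hom.app (op W) a) =
      EtConsAb.pullSect p (freeAb E) W (eta E a) := by
  have h := congrArg (fun k => k.hom.app (op W) a) ((EtDesc.adjSh p).homEquiv_unit E _ (toFree E p))
  rw [toFree, Equiv.apply_symm_apply] at h
  exact h.symm

theorem germ_toFree {Ω : Type u} [Field Ω] [IsSepClosed Ω] (ρ : Spec (CommRingCat.of Ω) ⟶ X')
    {W : X'.Etale} (y : (Scheme.pointSmallEtale ρ).fiber.obj W)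
    (s : ((EtDesc.pullSh p).obj E).obj.obj (op W)) {U : X.Etale}
    (φ : (Scheme.pointSmallEtale (ρ ≫ p)).fiber.obj U) (a : E.obj.obj (op U))
    (h : SetStalk.germ ρ _ W y s =
      (SetStalk.stalkPullShIso p ρ).inv.app E (SetStalk.germ (ρ ≫ p) E U φ a)) :
    germ ρ ((EtCoh.pull p).obj (freeAb E)) W y ((toFree E p).hom.app (op W) s) =
      (stalkPullIso p ρ).inv.app (freeAb E) (germ (ρ ≫ p) (freeAb E) U φ (eta E a)) := by
  rw [SetPush.germ_stalkPullShIso_inv] at h
  obtain ⟨M, g₁, g₂, z, h₁, h₂, e⟩ := exists_common _ h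
  have e' := congrArg ((toFree E p).hom.app (op M)) e
  rw [NatTrans.naturality_apply, NatTrans.naturality_apply, toFree_unit] at e'
  rw [← EtConsAb.germ_pullSect, ← h₁, ← h₂, ← germ_res, ← germ_res]
  exact congrArg (germ ρ _ M z) e'

end Groth.Agent.HTopBig.SetsBC
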