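import Groth.Agent.HTopBig.BigPull
import Groth.Agent.EtFppfCmp.FinitePush

/-!
# `a⁻¹` commutes with direct images when the comparison of big étale direct images is an isomorphism
-/

set_option autoImplicit false
set_option linter.style.haveILetI false
set_option backward.isDefEq.respectTransparency.types false

universe u

open CategoryTheory CategoryTheory.Limits AlgebraicGeometry Opposite

namespace Groth.Agent.HTopBig

variable {K : Precoverage Scheme.{u}} (hle : Scheme.etalePrecoverage ≤ K)
  (hK : ∀ ⦃X : Scheme.{u}⦄ (R : Sieve X), R ∈ K.toGrothendieck X → USub R)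

include hle hK in
/-- The underlying presheaf of the pullback to a big site with universally submersive coverings. -/
theorem nonempty_presheaf_iso (S : Scheme.{u}) [BigSite.AEtCont K S] (F : EtCoh.Ab S) :
    Nonempty (((BigSite.piEtPull K S).obj F).obj ≅
      ((BigSite.piEtPull Scheme.etalePrecoverage S).obj F).obj) := by
  let ι : BigSite.Ab K S ⥤ BigSite.Ab Scheme.etalePrecoverage S :=
    { obj := fun G => ⟨G.obj, fun E => Presieve.isSheaf_of_le _ (BigSite.J_mono hle S) (G.property E)⟩
      map := fun φ => ⟨φ.hom⟩ }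
  let L : EtCoh.Ab S ⥤ BigSite.Ab K S :=
    { obj := fun G => ⟨((BigSite.piEtPull Scheme.etalePrecoverage S).obj G).obj, isSheaf_piEtPull S hK G⟩
      map := fun φ => ⟨((BigSite.piEtPull Scheme.etalePrecoverage S).map φ).hom⟩
      map_id := fun G => by apply Sheaf.hom_ext; simp [CategoryTheory.Functor.map_id]
      map_comp := fun a b => by apply Sheaf.hom_ext; simp [CategoryTheory.Functor.map_comp] }
  let e := BigSite.piEtAdj Scheme.etalePrecoverage S
  let adj : L ⊣ BigSite.resEt K S := Adjunction.mkOfHomEquiv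
    { homEquiv := fun A G =>
        { toFun := fun φ => e.homEquiv A (ι.obj G) ⟨φ.hom⟩
          invFun := fun ψ => ⟨((e.homEquiv A (ι.obj G)).symm ψ).hom⟩
          left_inv := fun φ => by apply Sheaf.hom_ext; simp
          right_inv := fun ψ => by exact (e.homEquiv A (ι.obj G)).apply_symm_apply ψ }
      homEquiv_naturality_left_symm := fun {A A' G} a b => by
        apply Sheaf.hom_ext
        exact congrArg (·.hom) (e.homEquiv_naturality_left_symm (Y := ι.obj G) a b)
      homEquiv_naturality_right := fun {A G G'} a b => by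
        exact e.homEquiv_naturality_right (Y := ι.obj G) (Y' := ι.obj G') ⟨a.hom⟩ (ι.map b) }
  exact ⟨(sheafToPresheaf _ _).mapIso ((Adjunction.leftAdjointUniq (BigSite.piEtAdj K S) adj).app F)⟩

include hle hK in
/-- `a⁻¹ f_* = f_* a⁻¹` once the comparison on the big étale sites is an isomorphism. -/
theorem nonempty_push_comm_iso {X Y : Scheme.{u}} (f : X ⟶ Y) [BigSite.AEtCont K X]
    [BigSite.AEtCont K Y] (F : EtCoh.Ab X) (hphi : IsIso (EtFppfCmp.phi f F)) :
    Nonempty ((BigSite.piEtPull K Y).obj ((EtCoh.push f).obj F) ≅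
      (BigSite.pushBig K f AddCommGrpCat.{u + 1}).obj ((BigSite.piEtPull K X).obj F)) := by
  obtain ⟨e₁⟩ := nonempty_presheaf_iso hle hK Y ((EtCoh.push f).obj F)
  obtain ⟨e₂⟩ := nonempty_presheaf_iso hle hK X F
  exact ⟨(fullyFaithfulSheafToPresheaf (QuotSh.J K Y) AddCommGrpCat.{u + 1}).preimageIso
    (e₁ ≪≫ (sheafToPresheaf _ _).mapIso (asIso (EtFppfCmp.phi f F)) ≪≫
      Functor.isoWhiskerLeft (Over.pullback f).op e₂.symm)⟩

end Groth.Agent.HTopBig
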