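import Groth.Agent.HTopBig.SetsPBC
import Groth.Agent.DescSh.Square
import Groth.Agent.BigBC.PiPull
import Groth.Agent.BigBC.Basic

/-!
# `π⁻¹` commutes with direct images of sheaves of sets along proper morphisms
-/

set_option autoImplicit false
set_option linter.style.haveILetI false
set_option maxHeartbeats 1000000
set_option backward.isDefEq.respectTransparency.types false
set_option backward.isDefEq.respectTransparency false

universe u

open CategoryTheory CategoryTheory.Limits AlgebraicGeometry Opposite

noncomputable section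

namespace Groth.Agent.HTopBig.SetBigPush

open Groth.Agent Groth.Agent.BigBC

theorem res_res {C : Type*} [Category C] (G : Cᵒᵖ ⥤ Type (u + 1)) {A B D : C} (a : A ⟶ B) (b : B ⟶ D)
    (x : G.obj (op D)) : G.map a.op (G.map b.op x) = G.map (a ≫ b).op x := by
  rw [op_comp, Functor.map_comp]
  rfl

/-- The pullback of sheaves of sets to the big étale site. -/
abbrev pi (S : Scheme.{u}) :=
  (EtFppf.a S).sheafPullback (Type (u + 1)) S.smallEtaleTopology (QuotSh.J Scheme.etalePrecoverage S)

/-- Restriction of sheaves of sets to the small étale site. -/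
abbrev res (S : Scheme.{u}) :=
  (EtFppf.a S).sheafPushforwardContinuous (Type (u + 1)) S.smallEtaleTopology
    (QuotSh.J Scheme.etalePrecoverage S)

/-- The adjunction. -/
abbrev piAdj (S : Scheme.{u}) : pi S ⊣ res S :=
  (EtFppf.a S).sheafAdjunctionContinuous (Type (u + 1)) S.smallEtaleTopology
    (QuotSh.J Scheme.etalePrecoverage S)

/-- The unit on sections. -/
abbrev eta {S : Scheme.{u}} (F : EtDesc.Sh S) {U : S.Etale} (s : F.obj.obj (op U)) :
    ((pi S).obj F).obj.obj (op ((EtFppf.a S).obj U)) :=
  ((piAdj S).unit.app F).hom.app (op U) s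

variable {S T V P : Scheme.{u}} (f : T ⟶ S) (g : V ⟶ S)

/-- Big direct image restricts to small direct image. -/
def pushResIso :
    BigSite.pushBig Scheme.etalePrecoverage f (Type (u + 1)) ⋙ res S ≅ res T ⋙ EtDesc.pushSh f :=
  haveI : (EtCoh.bc f ⋙ EtFppf.a T).IsContinuous S.smallEtaleTopology
      (QuotSh.J Scheme.etalePrecoverage T) :=
    Functor.isContinuous_comp _ _ _ T.smallEtaleTopology _
  Functor.sheafPushforwardContinuousComp' (aPullbackIso f) _ _ _ _ ≪≫
    (Functor.sheafPushforwardContinuousComp _ _ _ _ _ _).symm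

/-- The comparison of direct images. -/
def theta (F : EtDesc.Sh T) : (pi S).obj ((EtDesc.pushSh f).obj F) ⟶
    (BigSite.pushBig Scheme.etalePrecoverage f (Type (u + 1))).obj ((pi T).obj F) :=
  ((piAdj S).homEquiv _ _).symm
    ((EtDesc.pushSh f).map ((piAdj T).unit.app F) ≫ (pushResIso f).inv.app _)

/-- The comparison of direct images as a natural transformation. -/
def thetaNat : EtDesc.pushSh f ⋙ pi S ⟶
    pi T ⋙ BigSite.pushBig Scheme.etalePrecoverage f (Type (u + 1)) where
  app F := theta f F
  naturality F G a := by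
    show (pi S).map ((EtDesc.pushSh f).map a) ≫ theta f G =
      theta f F ≫ (BigSite.pushBig Scheme.etalePrecoverage f (Type (u + 1))).map ((pi T).map a)
    rw [theta, theta, ← Adjunction.homEquiv_naturality_left_symm,
      ← Adjunction.homEquiv_naturality_right_symm]
    refine congrArg _ ?_
    rw [← Category.assoc, ← Functor.map_comp]
    erw [(piAdj T).unit.naturality a]
    rw [Category.assoc, Functor.map_comp, Category.assoc]
    exact congrArg (_ ≫ ·) ((pushResIso f).inv.naturality ((pi T).map a))

theorem theta_eta (F : EtDesc.Sh T) (U : S.Etale) (c : ((EtDesc.pushSh f).obj F).obj.obj (op U)) :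
    (theta f F).hom.app (op ((EtFppf.a S).obj U)) (eta ((EtDesc.pushSh f).obj F) c) =
      ((pi T).obj F).obj.map ((aPullbackIso f).hom.app U).op (eta F (U := (EtCoh.bc f).obj U) c) := by
  have h := congrArg (fun k => k.hom.app (op U) c)
    (Adjunction.homEquiv_unit (adj := piAdj S) _ _ (theta f F))
  rw [theta, Equiv.apply_symm_apply] at h
  refine h.symm.trans ?_
  simp [pushResIso]
  rfl

/-- `g_big⁻¹ π_S⁻¹ = π_V⁻¹ g⁻¹`. -/
def piPullIso : EtDesc.pullSh g ⋙ pi V ≅
    pi S ⋙ BigSite.pullBig Scheme.etalePrecoverage g (Type (u + 1)) :=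
  Adjunction.leftAdjointUniq ((EtDesc.adjSh g).comp (piAdj V))
    (((piAdj S).comp (BigSite.bigAdj Scheme.etalePrecoverage g (Type (u + 1)))).ofNatIsoRight
      (pushResIso g))

/-- The restriction of `π_S⁻¹ F` to the small site of `V` receives `g⁻¹ F`. -/
def kappa (F : EtDesc.Sh S) : (EtDesc.pullSh g).obj F ⟶
    (res V).obj ((BigSite.pullBig Scheme.etalePrecoverage g (Type (u + 1))).obj ((pi S).obj F)) :=
  (piAdj V).unit.app ((EtDesc.pullSh g).obj F) ≫ (res V).map ((piPullIso g).hom.app F)

theorem isIso_kappa (F : EtDesc.Sh S) : IsIso (kappa g F) := by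
  haveI : IsIso ((piAdj V).unit.app ((EtDesc.pullSh g).obj F)) := (S6184.result V).1 _
  exact inferInstanceAs (IsIso ((piAdj V).unit.app ((EtDesc.pullSh g).obj F) ≫ _))

/-- The projection from the base change. -/
def proj (U : S.Etale) : (Over.map g).obj ((EtFppf.a V).obj ((EtCoh.bc g).obj U)) ⟶ (EtFppf.a S).obj U :=
  Over.homMk (pullback.fst U.hom g) pullback.condition

theorem kappa_secUp (F : EtDesc.Sh S) (U : S.Etale) (s : F.obj.obj (op U)) :
    (kappa g F).hom.app (op ((EtCoh.bc g).obj U)) (DescSh.secUp g F s) =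
      ((pi S).obj F).obj.map (proj g U).op (eta F s) := by
  have h := congrArg (fun k => k.hom.app (op U) s)
    (Adjunction.unit_leftAdjointUniq_hom_app ((EtDesc.adjSh g).comp (piAdj V))
      (((piAdj S).comp (BigSite.bigAdj Scheme.etalePrecoverage g (Type (u + 1)))).ofNatIsoRight
        (pushResIso g)) F)
  refine Eq.trans ?_ (h.trans ?_)
  · rfl
  · simp [pushResIso]
    refine (res_res _ _ _ _).trans ?_
    refine congrArg (fun k : _ ⟶ (EtFppf.a S).obj U => ((pi S).obj F).obj.map k.op _) ?_
    exact Over.OverMorphism.ext rfl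

variable {f g} {pf : P ⟶ T} {pg : P ⟶ V} (hsq : IsPullback pf pg f g)

/-- Beck–Chevalley for the functors defining the restrictions. -/
def sqIso : EtFppf.a V ⋙ Over.map g ⋙ Over.pullback f ≅ EtCoh.bc pg ⋙ EtFppf.a P ⋙ Over.map pf :=
  Functor.isoWhiskerLeft _ (mapPullbackIso hsq) ≪≫ (Functor.associator _ _ _).symm ≪≫
    Functor.isoWhiskerRight
      (MorphismProperty.Over.pullbackCompForgetIso (P := EtCoh.etaleMP) (Q := ⊤) pg).symm _ ≪≫
    Functor.associator _ _ _

/-- Restrictions of a direct image. -/
def resPushIso (G : Sheaf (QuotSh.J Scheme.etalePrecoverage T) (Type (u + 1))) :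
    (EtDesc.pushSh pg).obj ((res P).obj
      ((BigSite.pullBig Scheme.etalePrecoverage pf (Type (u + 1))).obj G)) ≅
    (res V).obj ((BigSite.pullBig Scheme.etalePrecoverage g (Type (u + 1))).obj
      ((BigSite.pushBig Scheme.etalePrecoverage f (Type (u + 1))).obj G)) :=
  (fullyFaithfulSheafToPresheaf _ _).preimageIso
    (Functor.isoWhiskerRight (NatIso.op (sqIso hsq)) G.obj)

include hsq in
/-- The comparison restricts to the base change morphism. -/
theorem res_theta (F : EtDesc.Sh T) :
    kappa g ((EtDesc.pushSh f).obj F) ≫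
      (res V).map ((BigSite.pullBig Scheme.etalePrecoverage g (Type (u + 1))).map (theta f F)) =
    EtBC.baseChange0Sh f g pg pf hsq.w F ≫ (EtDesc.pushSh pg).map (kappa pf F) ≫
      (resPushIso hsq ((pi T).obj F)).hom := by
  refine DescSh.hom_ext_secUp g _ _ fun W s => ?_
  let G := (pi T).obj F
  refine Eq.trans (b := G.obj.map ((Over.pullback f).map (proj g W) ≫ (aPullbackIso f).hom.app W).op
    (eta F (U := (EtCoh.bc f).obj W) s)) ?_ ?_
  · show (theta f F).hom.app _ ((kappa g ((EtDesc.pushSh f).obj F)).hom.app _ (DescSh.secUp g _ s)) = _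
    refine (congrArg _ (kappa_secUp g ((EtDesc.pushSh f).obj F) W s)).trans ?_
    refine (NatTrans.naturality_apply (theta f F).hom (proj g W).op _).trans ?_
    exact (congrArg _ (theta_eta f F W s)).trans (res_res G.obj _ _ _)
  · symm
    show (resPushIso hsq G).hom.hom.app _ ((kappa pf F).hom.app (op ((EtCoh.bc pg).obj ((EtCoh.bc g).obj W)))
      ((EtBC.baseChange0Sh f g pg pf hsq.w F).hom.app _ (DescSh.secUp g _ s))) = _
    rw [DescSh.baseChange0Sh_secUp g f pf pg hsq.w F W s, NatTrans.naturality_apply, kappa_secUp]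
    refine (congrArg _ (res_res G.obj _ _ _)).trans ((res_res G.obj _ _ _).trans ?_)
    refine congrArg (fun k : _ ⟶ (EtFppf.a T).obj ((EtCoh.bc f).obj W) => G.obj.map k.op _) ?_
    refine Over.OverMorphism.ext (pullback.hom_ext ?_ ((Over.w _).trans (Over.w _).symm))
    simp only [sqIso, mapPullbackIso]
    simp [proj]
    refine Eq.trans (congrArg (_ ≫ ·) ((Category.id_comp _).trans
      (DescSh.sqHom_fst g f pf pg hsq.w W))) ?_
    refine (Category.assoc _ _ _).symm.trans
      ((congrArg (· ≫ pullback.fst W.hom g) (IsPullback.isoPullback_inv_fst _)).trans ?_)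
    refine Eq.trans ?_ (congrArg (_ ≫ ·)
      (show Over.Hom.left ((aPullbackIso f).hom.app W) ≫ pullback.fst W.hom f = pullback.fst W.hom f from rfl)).symm
    exact (pullback.lift_fst _ _ _).symm

include hsq in
theorem isIso_res_theta [IsProper f] (F : EtDesc.Sh T) :
    IsIso ((res V).map ((BigSite.pullBig Scheme.etalePrecoverage g (Type (u + 1))).map (theta f F))) := by
  haveI := isIso_kappa g ((EtDesc.pushSh f).obj F)
  haveI := isIso_kappa pf F
  haveI := SetsBC.isIso_baseChange0Sh_proper f g pg pf hsq F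
  have h : IsIso (kappa g ((EtDesc.pushSh f).obj F) ≫
      (res V).map ((BigSite.pullBig Scheme.etalePrecoverage g (Type (u + 1))).map (theta f F))) := by
    rw [res_theta hsq F]
    infer_instance
  exact IsIso.of_isIso_comp_left (kappa g _) _

theorem isIso_theta (f : T ⟶ S) [IsProper f] (F : EtDesc.Sh T) : IsIso (theta f F) := by
  haveI : ∀ Z : (Over S)ᵒᵖ, IsIso ((theta f F).hom.app Z) := fun Z => by
    let g : Z.unop.left ⟶ S := Z.unop.hom
    haveI := isIso_res_theta (IsPullback.of_hasPullback f g) F
    let e : Z.unop ≅ (Over.map g).obj ((EtFppf.a _).obj (EtCoh.top Z.unop.left)) :=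
      Over.isoMk (Iso.refl _) ((Category.id_comp _).trans (Category.id_comp _))
    haveI : IsIso ((theta f F).hom.app (op ((Over.map g).obj ((EtFppf.a _).obj (EtCoh.top Z.unop.left))))) :=
      inferInstanceAs (IsIso (((res _).map
        ((BigSite.pullBig Scheme.etalePrecoverage g (Type (u + 1))).map (theta f F))).hom.app
          (op (EtCoh.top Z.unop.left))))
    exact (NatTrans.isIso_app_iff_of_iso (theta f F).hom e.op).1 inferInstance
  haveI : IsIso ((sheafToPresheaf _ _).map (theta f F)) := NatIso.isIso_of_isIso_app (theta f F).hom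
  exact isIso_of_reflects_iso _ (sheafToPresheaf _ _)

/-- `π⁻¹` commutes with direct images of sheaves of sets along proper morphisms. -/
theorem nonempty_pushIso (f : T ⟶ S) [IsProper f] :
    Nonempty (EtDesc.pushSh f ⋙ pi S ≅
      pi T ⋙ BigSite.pushBig Scheme.etalePrecoverage f (Type (u + 1))) := by
  haveI : ∀ F, IsIso ((thetaNat f).app F) := fun F => isIso_theta f F
  exact ⟨@asIso _ _ _ _ (thetaNat f) (NatIso.isIso_of_isIso_app _)⟩

end Groth.Agent.HTopBig.SetBigPush
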