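import Groth.Agent.HTopLib.Sheaf
import Groth.Agent.S7477
import Groth.Agent.S7468
import Groth.Agent.S8976
import Groth.Prelude.Def_BigSite

/-!
# Covering sieves of the ph and h topologies are universally submersive; etale coverings are covering
-/

set_option autoImplicit false
set_option linter.style.haveILetI false
set_option backward.isDefEq.respectTransparency.types false

universe w u

open CategoryTheory CategoryTheory.Limits AlgebraicGeometry TopologicalSpace Opposite

namespace Groth.Agent.HTopBig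

/-- After any base change the arrows of the sieve are jointly surjective and detect open sets. -/
def USub {X : Scheme.{u}} (R : Sieve X) : Prop :=
  ∀ (W : Scheme.{u}) (g : W ⟶ X),
    (∀ w : W, ∃ (Y : Scheme.{u}) (a : Y ⟶ W) (y : Y), R (a ≫ g) ∧ a y = w) ∧
    ∀ O : Set W, (∀ (Y : Scheme.{u}) (a : Y ⟶ W), R (a ≫ g) → IsOpen (a.base ⁻¹' O)) → IsOpen O

theorem uSub_of_isVSieve {X : Scheme.{u}} {R : Sieve X} (h : HTopLib.IsVSieve R) : USub R := by
  intro W g
  have key : ∀ i, ∃ G : PreZeroHypercover.{u} (W.affineCover.X i),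
      SGA1.UnivSubmersive (Sigma.desc G.f) ∧ ∀ j, R (G.f j ≫ W.affineCover.f i ≫ g) := by
    intro i
    haveI : IsAffine (W.affineCover.X i) := Scheme.isAffine_affineCover W i
    obtain ⟨G₀, hG₀, hmem⟩ := h _ (W.affineCover.f i ≫ g)
    obtain ⟨G, hG, he⟩ := HTopLib.exists_isStandardV_family.{0, u} G₀ hG₀
    refine ⟨G, S7477.result G (HTopLib.isVCover_of_isStandardV hG), fun j => ?_⟩
    have hle : G₀.presieve₀ ≤ (R.pullback (W.affineCover.f i ≫ g)).arrows := by
      rintro Z k ⟨l⟩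
      exact hmem l
    exact hle _ _ (he ▸ ⟨j⟩)
  choose G hG hmem using key
  have hq : ∀ i, Topology.IsQuotientMap (Sigma.desc (G i).f).base := fun i =>
    MorphismProperty.universally_le _ _ (hG i)
  constructor
  · intro w
    obtain ⟨i, x, rfl⟩ : ∃ i x, W.affineCover.f i x = w := ⟨_, W.affineCover.covers w⟩
    obtain ⟨z, rfl⟩ := (hq i).surjective x
    obtain ⟨⟨j, y⟩, rfl⟩ := (sigmaMk (G i).X).surjective z
    refine ⟨_, (G i).f j ≫ W.affineCover.f i, y, by simpa only [Category.assoc] using hmem i j, ?_⟩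
    rw [sigmaMk_mk]
    change _ = ((Sigma.ι (G i).X j ≫ Sigma.desc (G i).f) ≫ W.affineCover.f i) y
    rw [Sigma.ι_desc]
  · intro O hO
    have hi : ∀ i, IsOpen ((W.affineCover.f i).base ⁻¹' O) := by
      intro i
      rw [← (hq i).isOpen_preimage, ← (sigmaMk (G i).X).isOpen_preimage, isOpen_sigma_iff]
      intro j
      have e : Sigma.mk j ⁻¹' (sigmaMk (G i).X ⁻¹'
          ((Sigma.desc (G i).f).base ⁻¹' ((W.affineCover.f i).base ⁻¹' O))) =
          ((G i).f j ≫ W.affineCover.f i).base ⁻¹' O := by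
        ext z
        simp only [Set.mem_preimage, sigmaMk_mk]
        change ((Sigma.ι (G i).X j ≫ Sigma.desc (G i).f) ≫ W.affineCover.f i) z ∈ O ↔ _
        rw [Sigma.ι_desc]
      rw [e]
      exact hO _ _ (by simpa only [Category.assoc] using hmem i j)
    have hU : O = ⋃ i, (W.affineCover.f i).base '' ((W.affineCover.f i).base ⁻¹' O) := by
      ext w
      refine ⟨fun hw => ?_, fun hw => ?_⟩
      · obtain ⟨i, x, rfl⟩ : ∃ i x, W.affineCover.f i x = w := ⟨_, W.affineCover.covers w⟩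
        exact Set.mem_iUnion.2 ⟨i, x, hw, rfl⟩
      · obtain ⟨i, x, hx, rfl⟩ := Set.mem_iUnion.1 hw
        exact hx
    rw [hU]
    exact isOpen_iUnion fun i => (W.affineCover.f i).isOpenEmbedding.isOpenMap _ (hi i)

theorem uSub_of_mem_toGrothendieck {J : Precoverage Scheme.{u}}
    (hJ : ∀ ⦃X : Scheme.{u}⦄ (S : Presieve X), S ∈ J X → USub (Sieve.generate S)) {X : Scheme.{u}}
    {R : Sieve X} (hR : R ∈ J.toGrothendieck X) : USub R := by
  rw [Precoverage.mem_toGrothendieck_iff] at hR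
  induction hR with
  | of X S hS => exact hJ S hS
  | top X =>
    exact fun W g => ⟨fun w => ⟨W, 𝟙 W, w, trivial, rfl⟩,
      fun O hO => by simpa using hO W (𝟙 W) trivial⟩
  | pullback X S _ Y f ih =>
    intro W g
    obtain ⟨h₁, h₂⟩ := ih W (g ≫ f)
    refine ⟨fun w => ?_, fun O hO => h₂ O fun Z a ha => hO Z a (by simpa using ha)⟩
    obtain ⟨Z, a, y, ha, hay⟩ := h₁ w
    exact ⟨Z, a, y, by simpa using ha, hay⟩
  | transitive X S R _ _ ihS ihR =>
    intro W g
    obtain ⟨h₁, h₂⟩ := ihS W g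
    refine ⟨fun w => ?_, fun O hO => h₂ O fun Z a ha => (ihR ha Z (𝟙 Z)).2 _ fun Z' b hb => ?_⟩
    · obtain ⟨Z, a, y, ha, hay⟩ := h₁ w
      obtain ⟨Z', b, z, hb, hbz⟩ := (ihR ha Z (𝟙 Z)).1 y
      exact ⟨Z', b ≫ a, z, by simpa using hb, by rw [Scheme.Hom.comp_apply, hbz, hay]⟩
    · exact hO Z' (b ≫ a) (by simpa using hb)

theorem isVCover_of_isPhCover {T : Scheme.{u}} {E : PreZeroHypercover.{w} T} (h : HTop.IsPhCover E) :
    HTop.IsVCover E := fun U => by
  obtain ⟨F, hF, hFE⟩ := h.2 U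
  exact ⟨F, S7468.result F hF, hFE⟩

theorem uSub_of_mem_ph {X : Scheme.{u}} {R : Sieve X} (hR : R ∈ HTop.phTopology X) : USub R := by
  refine uSub_of_mem_toGrothendieck (fun Y S hS => ?_) hR
  obtain ⟨E, rfl⟩ := S.exists_eq_preZeroHypercover
  exact uSub_of_isVSieve (HTopLib.isVSieve_of_isVCover
    (isVCover_of_isPhCover ((HTop.presieve₀_mem_phPrecoverage_iff E).1 hS)))

theorem uSub_of_mem_h {X : Scheme.{u}} {R : Sieve X} (hR : R ∈ HTop.hTopology X) : USub R := by
  refine uSub_of_mem_toGrothendieck (fun Y S hS => ?_) hR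
  obtain ⟨E, rfl⟩ := S.exists_eq_preZeroHypercover
  exact uSub_of_isVSieve (HTopLib.isVSieve_of_isVCover ((HTop.presieve₀_mem_hPrecoverage_iff E).1 hS).2)

theorem etale_le_h : Scheme.etalePrecoverage.{u} ≤ HTop.hPrecoverage := by
  intro X R hR
  obtain ⟨(𝒰 : Scheme.Cover (Scheme.precoverage @Etale) X), rfl⟩ := Scheme.exists_cover_of_mem_pretopology hR
  refine (HTop.presieve₀_mem_hPrecoverage_iff _).2 ⟨fun i => ?_, ?_⟩
  · haveI : Etale (𝒰.f i) := 𝒰.map_prop i
    infer_instance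
  · haveI : QuasiCompactCover 𝒰.toPreZeroHypercover := QuasiCompactCover.of_isOpenMap fun i => by
      haveI : Etale (𝒰.f i) := 𝒰.map_prop i
      exact (𝒰.f i).isOpenMap
    refine HTopLib.isVCover_of_fpqc _ fun i => ?_
    haveI : Etale (𝒰.f i) := 𝒰.map_prop i
    infer_instance

theorem etale_le_ph : Scheme.etalePrecoverage.{u} ≤ HTop.phPrecoverage := by
  intro X R hR
  obtain ⟨E, rfl⟩ := R.exists_eq_preZeroHypercover
  have := (HTop.presieve₀_mem_hPrecoverage_iff E).1 (etale_le_h _ hR)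
  exact (HTop.presieve₀_mem_phPrecoverage_iff E).2 ((S8976.result E this.1).2 this.2)

end Groth.Agent.HTopBig
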